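import Groth.Agent.DVRCrit.Local
import Mathlib

/-!
# Reduced subschemes and separatedness criteria
-/

set_option autoImplicit false
set_option backward.isDefEq.respectTransparency false

universe u

open CategoryTheory CategoryTheory.Limits AlgebraicGeometry TopologicalSpace

namespace Groth.Agent.RedSepLib

/-- A morphism from a reduced scheme into the image of an immersion factors. -/
theorem exists_factor_immersion {T Z X : Scheme.{u}} [IsReduced T] (i : Z ⟶ X) [IsImmersion i] (g : T ⟶ X)
    (h : Set.range g ⊆ Set.range i) : ∃ g' : T ⟶ Z, g' ≫ i = g := by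
  have hU : Set.range g ⊆ Set.range i.coborderRange.ι := by
    rw [Scheme.Opens.range_ι]
    exact h.trans subset_coborder
  have hr : Set.range (IsOpenImmersion.lift i.coborderRange.ι g hU) ⊆ Set.range i.liftCoborder := by
    rintro _ ⟨t, rfl⟩
    obtain ⟨z, hz⟩ := h ⟨t, rfl⟩
    refine ⟨z, i.coborderRange.ι.isOpenEmbedding.injective ?_⟩
    rw [← Scheme.Hom.comp_apply, ← Scheme.Hom.comp_apply, i.liftCoborder_ι, IsOpenImmersion.lift_fac]
    exact hz
  obtain ⟨g', hg'⟩ := DVRCrit.exists_factor_closed i.liftCoborder _ hr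
  exact ⟨g', by rw [← i.liftCoborder_ι, ← Category.assoc, hg', IsOpenImmersion.lift_fac]⟩

/-- An immersion with open image into a reduced scheme is an open immersion. -/
theorem isOpenImmersion_of_isOpen_range {T Z : Scheme.{u}} [IsReduced Z] (j : T ⟶ Z) [IsImmersion j]
    (hopen : IsOpen (Set.range j)) : IsOpenImmersion j := by
  let U : Z.Opens := ⟨_, hopen⟩
  have hU : Set.range j ⊆ Set.range U.ι := (Scheme.Opens.range_ι U).symm.subset
  let j' := IsOpenImmersion.lift U.ι j hU
  have hj' : j' ≫ U.ι = j := IsOpenImmersion.lift_fac _ _ _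
  have : IsImmersion (j' ≫ U.ι) := by rw [hj']; infer_instance
  have : IsImmersion j' := IsImmersion.of_comp j' U.ι
  have hsurj : Function.Surjective j' := fun u => by
    have hu : U.ι u ∈ Set.range U.ι := ⟨u, rfl⟩
    rw [Scheme.Opens.range_ι] at hu
    obtain ⟨t, ht⟩ := hu
    refine ⟨t, U.ι.isOpenEmbedding.injective ?_⟩
    rw [← Scheme.Hom.comp_apply, hj']
    exact ht
  have : IsClosedImmersion j' := .of_isPreimmersion _ (by rw [hsurj.range_eq]; exact isClosed_univ)
  have : Surjective j' := ⟨hsurj⟩
  have : IsReduced U.toScheme := isReduced_of_isOpenImmersion U.ι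
  have := isIso_of_isClosedImmersion_of_surjective j'
  rw [← hj']
  infer_instance

theorem isReduced_nilradical (X : Scheme.{u}) : IsReduced X.nilradical.subscheme := by
  rw [← Scheme.IdealSheafData.vanishingIdeal_top]
  exact DVRCrit.isReduced_vanishingIdeal ⊤

theorem surjective_nilradical (X : Scheme.{u}) : Function.Surjective X.nilradical.subschemeι := fun x => by
  have h : x ∈ Set.range X.nilradical.subschemeι := by simp
  exact h

/-- Reduced subscheme structures. -/
theorem exists_reduced_subscheme (X : Scheme.{u}) (Z : Set X) (hZ : IsLocallyClosed Z) :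
    ∃ (Y : Scheme.{u}) (i : Y ⟶ X), IsImmersion i ∧ IsReduced Y ∧ Set.range i = Z := by
  let U : X.Opens := ⟨coborder Z, hZ.isOpen_coborder⟩
  let C : Closeds U.toScheme := ⟨U.ι ⁻¹' Z, by
    exact isClosed_preimage_val_coborder⟩
  refine ⟨(Scheme.IdealSheafData.vanishingIdeal C).subscheme,
    (Scheme.IdealSheafData.vanishingIdeal C).subschemeι ≫ U.ι, inferInstance, DVRCrit.isReduced_vanishingIdeal C, ?_⟩
  rw [Scheme.Hom.comp_base, TopCat.coe_comp, Set.range_comp, Scheme.IdealSheafData.range_subschemeι,
    Scheme.IdealSheafData.coe_support_vanishingIdeal]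
  exact Set.image_preimage_eq_of_subset (by rw [Scheme.Opens.range_ι]; exact subset_coborder)

theorem exists_iso_of_range_eq {X Y Y' : Scheme.{u}} (i : Y ⟶ X) (i' : Y' ⟶ X) [IsImmersion i] [IsImmersion i']
    [IsReduced Y] [IsReduced Y'] (h : Set.range i = Set.range i') : ∃ e : Y ≅ Y', e.hom ≫ i' = i := by
  obtain ⟨a, ha⟩ := exists_factor_immersion i' i h.subset
  obtain ⟨b, hb⟩ := exists_factor_immersion i i' h.superset
  refine ⟨⟨a, b, ?_, ?_⟩, ha⟩
  · rw [← cancel_mono i, Category.assoc, hb, ha, Category.id_comp]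
  · rw [← cancel_mono i', Category.assoc, ha, hb, Category.id_comp]

/-- An immersion of a reduced scheme is open in the reduced closure of its image. -/
theorem exists_closure_factor {Z X : Scheme.{u}} (h : Z ⟶ X) [IsImmersion h] [IsReduced Z] :
    ∃ (W : Scheme.{u}) (j : Z ⟶ W) (i : W ⟶ X), IsOpenImmersion j ∧ IsClosedImmersion i ∧
      IsReduced W ∧ Set.range i = closure (Set.range h) ∧ j ≫ i = h := by
  let C : Closeds X := ⟨closure (Set.range h), isClosed_closure⟩
  let i := (Scheme.IdealSheafData.vanishingIdeal C).subschemeι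
  have hi : Set.range i = closure (Set.range h) := by
    rw [Scheme.IdealSheafData.range_subschemeι, Scheme.IdealSheafData.coe_support_vanishingIdeal]
    rfl
  obtain ⟨j, hj⟩ := DVRCrit.exists_factor_closed i h (hi ▸ subset_closure)
  have : IsReduced (Scheme.IdealSheafData.vanishingIdeal C).subscheme := DVRCrit.isReduced_vanishingIdeal C
  have : IsImmersion (j ≫ i) := by rw [hj]; infer_instance
  have : IsImmersion j := IsImmersion.of_comp j i
  refine ⟨_, j, i, isOpenImmersion_of_isOpen_range j ?_, inferInstance, inferInstance, hi, hj⟩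
  have hr : Set.range j = i ⁻¹' coborder (Set.range h) := by
    ext w
    constructor
    · rintro ⟨z, rfl⟩
      rw [Set.mem_preimage, ← Scheme.Hom.comp_apply, hj]
      exact subset_coborder ⟨z, rfl⟩
    · intro hw
      have hwc : i w ∈ closure (Set.range h) := hi ▸ ⟨w, rfl⟩
      rcases (coborder_eq_union_closure_compl.subset hw : i w ∈ Set.range h ∪ (closure (Set.range h))ᶜ) with
        ⟨z, hz⟩ | hn
      · refine ⟨z, i.isEmbedding.injective ?_⟩
        rw [← Scheme.Hom.comp_apply, hj]
        exact hz
      · exact absurd hwc hn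
  rw [hr]
  exact (h.coborderRange.2).preimage i.continuous

/-- The reduction of an open immersion is an open immersion. -/
theorem isOpenImmersion_red {X Y : Scheme.{u}} (f : X ⟶ Y) [IsOpenImmersion f]
    (g : X.nilradical.subscheme ⟶ Y.nilradical.subscheme)
    (hg : g ≫ Y.nilradical.subschemeι = X.nilradical.subschemeι ≫ f) :
    IsOpenImmersion g := by
  have : IsImmersion (g ≫ Y.nilradical.subschemeι) := by rw [hg]; infer_instance
  have : IsImmersion g := IsImmersion.of_comp g Y.nilradical.subschemeι
  have := isReduced_nilradical Y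
  refine isOpenImmersion_of_isOpen_range g ?_
  have hr : Set.range g = Y.nilradical.subschemeι ⁻¹' Set.range f := by
    ext w
    constructor
    · rintro ⟨z, rfl⟩
      rw [Set.mem_preimage, ← Scheme.Hom.comp_apply, hg]
      exact ⟨_, rfl⟩
    · rintro ⟨x, hx⟩
      obtain ⟨z, rfl⟩ := surjective_nilradical X x
      refine ⟨z, Y.nilradical.subschemeι.isEmbedding.injective ?_⟩
      rw [← Scheme.Hom.comp_apply, hg]
      exact hx
  rw [hr]
  exact f.isOpenEmbedding.isOpen_range.preimage Y.nilradical.subschemeι.continuous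

/-- Reduced closed subschemes with full support. -/
theorem isReduced_iff_eq_nilradical (X : Scheme.{u}) (I : X.IdealSheafData) (hI : I.support = ⊤) :
    IsReduced I.subscheme ↔ I = X.nilradical := by
  refine ⟨fun hred => le_antisymm ?_ ?_, fun h => h ▸ isReduced_nilradical X⟩
  · rw [← Scheme.IdealSheafData.vanishingIdeal_top, ← hI]
    exact Scheme.IdealSheafData.le_support_iff_le_vanishingIdeal.1 le_rfl
  · obtain ⟨a, ha⟩ := DVRCrit.exists_factor_closed X.nilradical.subschemeι I.subschemeι
      (fun x _ => surjective_nilradical X x)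
    calc X.nilradical = X.nilradical.subschemeι.ker := (Scheme.IdealSheafData.ker_subschemeι _).symm
      _ ≤ (a ≫ X.nilradical.subschemeι).ker := Scheme.Hom.le_ker_comp a _
      _ = I := by rw [ha, Scheme.IdealSheafData.ker_subschemeι]

theorem congr_fromSpecResidueField (X : Scheme.{u}) {x y : X} (h : x = y) :
    Spec.map (X.residueFieldCongr h).hom ≫ X.fromSpecResidueField x = X.fromSpecResidueField y := by
  subst h
  simp

/-- Two sections agreeing at the generic point agree. -/
theorem eq_of_generic {S X : Scheme.{u}} [IsIntegral S] (p : X ⟶ S) [IsSeparated p]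
    (f g : S ⟶ X) (hf : f ≫ p = 𝟙 S) (hg : g ≫ p = 𝟙 S)
    (h : f (genericPoint S) = g (genericPoint S)) : f = g := by
  let η := genericPoint S
  let ι := S.fromSpecResidueField η
  have : IsDominant ι := by
    rw [isDominant_iff, DenseRange, Scheme.range_fromSpecResidueField, dense_iff_closure_eq]
    exact genericPoint_spec S
  have hpf : p (f η) = η := by rw [← Scheme.Hom.comp_apply, hf]; rfl
  let E := X.fromSpecResidueField (f η)
  let u : Spec (S.residueField η) ⟶ Spec (X.residueField (f η)) := Spec.map (f.residueFieldMap η)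
  let v : Spec (S.residueField η) ⟶ Spec (X.residueField (f η)) :=
    Spec.map ((X.residueFieldCongr h).hom ≫ g.residueFieldMap η)
  let w : Spec (X.residueField (f η)) ⟶ Spec (S.residueField η) :=
    Spec.map ((S.residueFieldCongr hpf.symm).hom ≫ p.residueFieldMap (f η))
  have hu : u ≫ E = ι ≫ f := f.SpecMap_residueFieldMap_fromSpecResidueField η
  have hv : v ≫ E = ι ≫ g := by
    simp only [v, Spec.map_comp, Category.assoc, E]
    rw [congr_fromSpecResidueField]
    exact g.SpecMap_residueFieldMap_fromSpecResidueField η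
  have hw : w ≫ ι = E ≫ p := by
    simp only [w, Spec.map_comp, Category.assoc, ι]
    rw [congr_fromSpecResidueField]
    exact p.SpecMap_residueFieldMap_fromSpecResidueField (f η)
  have huw : u ≫ w = 𝟙 _ := by
    rw [← cancel_mono ι, Category.assoc, hw, reassoc_of% hu, hf, Category.comp_id, Category.id_comp]
  have hvw : v ≫ w = 𝟙 _ := by
    rw [← cancel_mono ι, Category.assoc, hw, reassoc_of% hv, hg, Category.comp_id, Category.id_comp]
  have hsurj : Function.Surjective (f.residueFieldMap η).hom := fun a => by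
    refine ⟨((S.residueFieldCongr hpf.symm).hom ≫ p.residueFieldMap (f η)).hom a, ?_⟩
    have hh : ((S.residueFieldCongr hpf.symm).hom ≫ p.residueFieldMap (f η)) ≫ f.residueFieldMap η = 𝟙 _ := by
      apply Spec.map_injective
      rw [Spec.map_comp, Spec.map_id]
      exact huw
    exact congrArg (fun q => q.hom a) hh
  have : IsIso (f.residueFieldMap η) := by
    rw [ConcreteCategory.isIso_iff_bijective]
    exact ⟨(f.residueFieldMap η).hom.injective, hsurj⟩
  have : IsIso w := by
    have : IsIso u := inferInstanceAs (IsIso (Spec.map _))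
    exact IsIso.of_isIso_fac_left huw
  have huv : u = v := by rw [← cancel_mono w, huw, hvw]
  refine ext_of_isDominant_of_isSeparated p (hf.trans hg.symm) ι ?_
  rw [← hu, ← hv, huv]

/-- Separatedness can be checked on a finite closed cover of the source. -/
theorem isSeparated_iff_closed_cover {X Y : Scheme.{u}} (f : X ⟶ Y) {n : ℕ} (Xk : Fin n → Scheme.{u})
    (g : (k : Fin n) → (Xk k ⟶ X)) [∀ k, IsClosedImmersion (g k)] (hcov : ∀ x : X, ∃ k, x ∈ Set.range (g k)) :
    IsSeparated f ↔ ∀ k, IsSeparated (g k ≫ f) := by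
  refine ⟨fun _ k => inferInstance, fun hk => ⟨.of_isPreimmersion _ ?_⟩⟩
  let m := fun k => pullback.map (g k ≫ f) (g k ≫ f) f f (g k) (g k) (𝟙 Y) (by simp) (by simp)
  have hnat : ∀ k, pullback.diagonal (g k ≫ f) ≫ m k = g k ≫ pullback.diagonal f := fun k => by
    apply pullback.hom_ext <;> simp [m]
  have hr : Set.range (pullback.diagonal f) = ⋃ k, m k '' Set.range (pullback.diagonal (g k ≫ f)) := by
    ext w
    simp only [Set.mem_iUnion, Set.mem_image, Set.mem_range]
    constructor
    · rintro ⟨x, rfl⟩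
      obtain ⟨k, z, rfl⟩ := hcov x
      exact ⟨k, _, ⟨z, rfl⟩, by rw [← Scheme.Hom.comp_apply, hnat, Scheme.Hom.comp_apply]⟩
    · rintro ⟨k, _, ⟨z, rfl⟩, rfl⟩
      exact ⟨g k z, by rw [← Scheme.Hom.comp_apply, ← hnat, Scheme.Hom.comp_apply]⟩
  rw [hr]
  have hk' : ∀ k, IsClosedImmersion (g k) := fun k => inferInstance
  refine isClosed_iUnion_of_finite fun k => ?_
  have := hk k
  have : IsClosedImmersion (m k) :=
    MorphismProperty.pullbackMap (P := @IsClosedImmersion) (hk' k) (hk' k) rfl rfl
  exact (m k).isClosedEmbedding.isClosedMap _ (pullback.diagonal (g k ≫ f)).isClosedEmbedding.isClosed_range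

/-- A morphism to an affine scheme is separated if pairs of points of a fibre lie in affine opens. -/
theorem isSeparated_of_pairs {X S : Scheme.{u}} [IsAffine S] (f : X ⟶ S)
    (h : ∀ x y : X, f x = f y → ∃ U : X.Opens, IsAffineOpen U ∧ x ∈ U ∧ y ∈ U) :
    IsSeparated f := by
  refine ⟨.of_isPreimmersion _ ?_⟩
  rw [← isOpen_compl_iff, isOpen_iff_forall_mem_open]
  intro w hw
  have hxy : f (pullback.fst f f w) = f (pullback.snd f f w) := by
    rw [← Scheme.Hom.comp_apply, ← Scheme.Hom.comp_apply, pullback.condition]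
  obtain ⟨U, hU, hx, hy⟩ := h _ _ hxy
  have : IsAffine U.toScheme := hU
  let m := pullback.map (U.ι ≫ f) (U.ι ≫ f) f f U.ι U.ι (𝟙 S) (by simp) (by simp)
  have hnat : pullback.diagonal (U.ι ≫ f) ≫ m = U.ι ≫ pullback.diagonal f := by
    apply pullback.hom_ext <;> simp [m]
  have : IsOpenImmersion m := inferInstance
  have hwm : w ∈ Set.range m := by
    rw [Scheme.Pullback.range_map, Scheme.Opens.range_ι]
    exact ⟨hx, hy⟩
  refine ⟨m '' (Set.range (pullback.diagonal (U.ι ≫ f)))ᶜ, ?_,
    m.isOpenEmbedding.isOpenMap _ (pullback.diagonal (U.ι ≫ f)).isClosedEmbedding.isClosed_range.isOpen_compl, ?_⟩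
  · rintro _ ⟨z, hz, rfl⟩ ⟨x, hx'⟩
    have hxU : x ∈ Set.range U.ι := by
      have hmz : pullback.fst f f (m z) ∈ Set.range U.ι := by
        rw [← Scheme.Hom.comp_apply]
        simp only [m, pullback.lift_fst]
        exact ⟨_, rfl⟩
      rwa [← hx', ← Scheme.Hom.comp_apply, pullback.diagonal_fst] at hmz
    obtain ⟨x', rfl⟩ := hxU
    refine hz ⟨x', m.isOpenEmbedding.injective ?_⟩
    rw [← Scheme.Hom.comp_apply, hnat, Scheme.Hom.comp_apply, hx']
  · obtain ⟨z, rfl⟩ := hwm
    exact ⟨z, fun ⟨x, hx'⟩ => hw ⟨U.ι x, by rw [← Scheme.Hom.comp_apply, ← hnat, Scheme.Hom.comp_apply, hx']⟩, rfl⟩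

end Groth.Agent.RedSepLib
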